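import Cfsg.Agent.Lib.H17.M22M.MonoTw

set_option autoImplicit false
set_option maxRecDepth 100000

/-! # The relations among the twist symbols (generated) -/

namespace Cfsg.Agent.Lib.H6.U33M.Cert

open Cfsg.Agent.Lib.H17.MonoCert

/-- the relation vectors -/
def relV : List (List ℤ) := [[11], [-126]]

theorem rel_alg_add {M : Type*} [AddCommGroup M] (a0 : M)
    (h0 : (11 : ℤ) • a0 + 0 = 0)
    (h1 : (-126 : ℤ) • a0 + 0 = 0)
    : (1 : ℤ) • a0 + 0 = 0 ∧
      True := by
  refine ⟨?_, ?_⟩
  · linear_combination (norm := module) (23 : ℤ) • h0 + (2 : ℤ) • h1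
  · trivial

theorem rel_alg {A : Type*} [CommGroup A] (z0 : A)
    (h0 : ltw [z0] [11] = 1)
    (h1 : ltw [z0] [-126] = 1)
    : ltw [z0] [1] = 1 ∧
      True := by
  have key := rel_alg_add (M := Additive A) (Additive.ofMul z0)
    (by
      have h : z0 ^ (11 : ℤ) * 1 = 1 := h0
      have := congrArg Additive.ofMul h
      simpa only [ofMul_mul, ofMul_zpow, ofMul_one] using this)
    (by
      have h : z0 ^ (-126 : ℤ) * 1 = 1 := h1
      have := congrArg Additive.ofMul h
      simpa only [ofMul_mul, ofMul_zpow, ofMul_one] using this)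
  obtain ⟨k0, -⟩ := key
  refine ⟨?_, ?_⟩
  · change z0 ^ (1 : ℤ) * 1 = 1
    apply Additive.ofMul.injective
    simpa only [ofMul_mul, ofMul_zpow, ofMul_one] using k0
  · trivial

end Cfsg.Agent.Lib.H6.U33M.Cert
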